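import Groth.Agent.S5974
import Groth.Agent.RegNear.Basic
import Groth.Agent.EtMil7.Basic
import Groth.Agent.PerfGen7.RpushRelTor

/-!
# Stalks of a split conormal sequence
-/

set_option backward.isDefEq.respectTransparency false
set_option backward.isDefEq.respectTransparency.types false
set_option linter.style.haveILetI false
set_option maxHeartbeats 1000000
set_option autoImplicit false

universe u

open CategoryTheory CategoryTheory.Limits AlgebraicGeometry TopologicalSpace Opposite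

namespace Groth.Agent.H1CNSplit

open Groth.Agent Groth.Agent.Synt29.ConormalStalk Groth.Agent.Synt29 OmegaStalk
open Groth.Agent.S5974 (Cls cls_of_sect cls_exists cls_sect cls_mem cls_exists_of_mem cls_inj cls_zero_mem_sq cls_sub_zero phi_gen)

section Cls

variable {Z X : Scheme.{u}} (i : Z ⟶ X) {x : Z}

theorem cls_smul {z : St (Omega.conormal i) x} {a : X.presheaf.stalk (i x)} (h : Cls i x z a)
    (r : X.presheaf.stalk (i x)) : Cls i x (i.stalkMap x r • z) (r * a) := by
  obtain ⟨m, hm, hz⟩ := h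
  refine ⟨r • m, rep_smul i hm r, ?_⟩
  rw [map_smul, hz, unit1_smul]

theorem cls_add {z z' : St (Omega.conormal i) x} {a a' : X.presheaf.stalk (i x)} (h : Cls i x z a)
    (h' : Cls i x z' a') : Cls i x (z + z') (a + a') := by
  obtain ⟨m, hm, hz⟩ := h
  obtain ⟨m', hm', hz'⟩ := h'
  refine ⟨m + m', rep_add i hm hm', ?_⟩
  rw [map_add, hz, hz']
  exact (map_add _ m m').symm

theorem cls_zero : Cls i x (0 : St (Omega.conormal i) x) 0 :=
  ⟨0, rep_zero i _, (map_zero _).trans (map_zero _).symm⟩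

theorem cls_sub {z z' : St (Omega.conormal i) x} {a a' : X.presheaf.stalk (i x)} (h : Cls i x z a)
    (h' : Cls i x z' a') : Cls i x (z - z') (a - a') := by
  have h1 := cls_add i h (cls_smul i h' (-1))
  rwa [map_neg, map_one, neg_one_smul, ← sub_eq_add_neg, neg_one_mul, ← sub_eq_add_neg] at h1

end Cls

/-- A local retraction of a map of modules retracts it on stalks, linearly. -/
theorem exists_stalk_retraction {Z : Scheme.{u}} {A B : Z.Modules} (φ : A ⟶ B) (U : Z.Opens)
    (ρ : (Scheme.Modules.restrictFunctor U.ι).obj B ⟶ (Scheme.Modules.restrictFunctor U.ι).obj A)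
    (hρ : (Scheme.Modules.restrictFunctor U.ι).map φ ≫ ρ = 𝟙 _) (u : (U : Scheme.{u})) :
    ∃ R : St B (U.ι u) →ₗ[Z.presheaf.stalk (U.ι u)] St A (U.ι u),
      ∀ w, R ((DerSch.stalkFunctor Z (U.ι u)).map φ w) = w := by
  let eA := ((Scheme.Modules.restrictStalkNatIso U.ι u).app A).addCommGroupIsoToAddEquiv
  let eB := ((Scheme.Modules.restrictStalkNatIso U.ι u).app B).addCommGroupIsoToAddEquiv
  have hA : ∀ (a : Z.presheaf.stalk (U.ι u)) (m : St ((Scheme.Modules.restrictFunctor U.ι).obj A) u),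
      eA (U.ι.stalkMap u a • m) = a • (show St A (U.ι u) from eA m) :=
    fun a m => PerfGen7.semilinear_restrictStalk U.ι A u a m
  have hB : ∀ (a : Z.presheaf.stalk (U.ι u)) (m : St ((Scheme.Modules.restrictFunctor U.ι).obj B) u),
      eB (U.ι.stalkMap u a • m) = a • (show St B (U.ι u) from eB m) :=
    fun a m => PerfGen7.semilinear_restrictStalk U.ι B u a m
  let r := (DerSch.stalkFunctor (U : Scheme.{u}) u).map ρ
  let R : St B (U.ι u) →ₗ[Z.presheaf.stalk (U.ι u)] St A (U.ι u) :=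
    { toFun := fun v => eA (r.hom (eB.symm v))
      map_add' := fun v v' => by
        show eA (r.hom (eB.symm (v + v'))) = _
        rw [map_add]
        exact (congrArg eA (map_add r.hom _ _)).trans (map_add eA _ _)
      map_smul' := fun a v => by
        have h1 : eB.symm (a • v) = U.ι.stalkMap u a •
            (show St ((Scheme.Modules.restrictFunctor U.ι).obj B) u from eB.symm v) := by
          refine eB.injective ((eB.apply_symm_apply _).trans ((congrArg (a • ·) ?_).trans (hB a _).symm))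
          exact (eB.apply_symm_apply v).symm
        show eA (r.hom (eB.symm (a • v))) = _
        rw [h1]
        exact (congrArg eA (map_smul r.hom _ _)).trans (hA a _) }
  refine ⟨R, fun w => ?_⟩
  show eA (r.hom (eB.symm _)) = w
  have hnat : eB.symm ((DerSch.stalkFunctor Z (U.ι u)).map φ w) =
      (DerSch.stalkFunctor (U : Scheme.{u}) u).map ((Scheme.Modules.restrictFunctor U.ι).map φ) (eA.symm w) := by
    refine eB.injective ((eB.apply_symm_apply _).trans ?_)
    have h2 := ConcreteCategory.congr_hom ((Scheme.Modules.restrictStalkNatIso U.ι u).hom.naturality φ) (eA.symm w)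
    refine Eq.trans ?_ h2.symm
    exact congrArg (fun t => (DerSch.stalkFunctor Z (U.ι u)).map φ t) (eA.apply_symm_apply w).symm
  rw [hnat]
  refine Eq.trans (congrArg eA ?_) (eA.apply_symm_apply w)
  have h3 := congr(((DerSch.stalkFunctor (U : Scheme.{u}) u).map $hρ).hom (eA.symm w))
  rw [Functor.map_comp, CategoryTheory.Functor.map_id] at h3
  exact h3

/-- If the conormal sequence is split at a point, then an equation of `Y` lying in the maximal ideal times
the equations of `Z` lies in the maximal ideal times the equations of `Y`. -/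
theorem mem_mul_of_split {X Y Z : Scheme.{u}} (i : Y ⟶ X) [IsClosedImmersion i] (j : Z ⟶ Y) [IsClosedImmersion j]
    (φ₁ : (Scheme.Modules.pullback j).obj (Omega.conormal i) ⟶ Omega.conormal (j ≫ i))
    (hφ₁ : OmegaSh.IsConormalMap (j ≫ i) i (𝟙 X) j φ₁) (z : Z)
    (R : St (Omega.conormal (j ≫ i)) z →ₗ[Z.presheaf.stalk z]
      St ((Scheme.Modules.pullback j).obj (Omega.conormal i)) z)
    (hR : ∀ w, R ((DerSch.stalkFunctor Z z).map φ₁ w) = w)
    (e : X.presheaf.stalk (i (j z))) (he : e ∈ RingHom.ker (i.stalkMap (j z)).hom)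
    (he' : e ∈ IsLocalRing.maximalIdeal (X.presheaf.stalk (i (j z))) *
      (RingHom.ker ((j ≫ i).stalkMap z).hom : Ideal (X.presheaf.stalk (i (j z))))) :
    e ∈ IsLocalRing.maximalIdeal (X.presheaf.stalk (i (j z))) * RingHom.ker (i.stalkMap (j z)).hom := by
  classical
  let M := IsLocalRing.maximalIdeal (X.presheaf.stalk (i (j z)))
  let I := RingHom.ker (i.stalkMap (j z)).hom
  let J : Ideal (X.presheaf.stalk (i (j z))) := RingHom.ker ((j ≫ i).stalkMap z).hom
  let P := (Scheme.Modules.pullback j).obj (Omega.conormal i)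
  let un : St (Omega.conormal i) (j z) →
      (ModuleCat.extendScalars (j.stalkMap z).hom).obj (St (Omega.conormal i) (j z)) := fun v =>
    ((ModuleCat.extendRestrictScalarsAdj (j.stalkMap z).hom).unit.app (St (Omega.conormal i) (j z))).hom v
  let eP := ((KFlatLib.stalkPullbackIso j z).app (Omega.conormal i)).hom
  have hσ : ∀ a : X.presheaf.stalk (i (j z)), (j ≫ i).stalkMap z a = j.stalkMap z (i.stalkMap (j z) a) :=
    fun a => by rw [Scheme.Hom.stalkMap_comp]; rfl
  -- every element of the stalk of the pullback is the image of a class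
  have hex : ∀ w : St P z, ∃ g c, Cls i (j z) c g ∧ eP w = un c := fun w => by
    obtain ⟨c, hc⟩ := ConormalExact.exists_unit j z (j.stalkMap_surjective z) _ w
    obtain ⟨g, hg⟩ := cls_exists i (j z) c
    exact ⟨g, c, hg, hc⟩
  -- the value of `φ₁` on the class of an equation of `Y`
  obtain ⟨O, hx, t, ht⟩ : ∃ (O : X.Opens) (hx : i (j z) ∈ O) (t : Γ(ClSub.idealMod i.ker, O)),
      X.presheaf.germ O (i (j z)) hx (OmegaSh.idealSect i.ker O t) = e := by
    obtain ⟨c, hc⟩ := cls_exists_of_mem i (j z) (RingHom.mem_ker.1 he)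
    obtain ⟨O, hx, t, -, ht⟩ := cls_sect i hc
    exact ⟨O, hx, t, ht⟩
  obtain ⟨s, hs, hval⟩ := phi_gen i j φ₁ hφ₁ O t (x := z) hx
  let w : St P z := gm _ (show z ∈ j ⁻¹ᵁ (i ⁻¹ᵁ O) from hx)
    (OmegaSh.pullSect j (Omega.conormal i) (i ⁻¹ᵁ O) (OmegaSh.conormalSect i O t))
  have hwe : ∃ c, Cls i (j z) c e ∧ eP w = un c :=
    ⟨_, cls_of_sect i hx t e ht, stalkPullbackIso_gm j _ z (show z ∈ j ⁻¹ᵁ (i ⁻¹ᵁ O) from hx) _⟩
  have hwc : Cls (j ≫ i) z ((DerSch.stalkFunctor Z z).map φ₁ w) e := by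
    rw [hval]
    exact cls_of_sect (j ≫ i) (show z ∈ (j ≫ i) ⁻¹ᵁ O from hx) s e (by rw [hs]; exact ht)
  -- `φ₁ w` lies in `𝔪 • N_{Z/X}`
  let Q : Ideal (Z.presheaf.stalk z) := M.map ((j ≫ i).stalkMap z).hom
  have hmemN : ∀ b ∈ M * J, ∃ v, Cls (j ≫ i) z v b ∧ v ∈ Q • (⊤ : Submodule (Z.presheaf.stalk z) (St (Omega.conormal (j ≫ i)) z)) := by
    intro b hb
    refine Submodule.mul_induction_on hb (fun r hr g hg => ?_) fun b b' hb hb' => ?_
    · obtain ⟨v, hv⟩ := cls_exists_of_mem (j ≫ i) z (a := g) (RingHom.mem_ker.1 hg)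
      exact ⟨_, cls_smul (j ≫ i) hv r, Submodule.smul_mem_smul (Ideal.mem_map_of_mem _ hr) trivial⟩
    · obtain ⟨v, hv, hvQ⟩ := hb
      obtain ⟨v', hv', hvQ'⟩ := hb'
      exact ⟨_, cls_add (j ≫ i) hv hv', add_mem hvQ hvQ'⟩
  obtain ⟨v, hv, hvQ⟩ := hmemN e he'
  rw [cls_inj (j ≫ i) hv hwc] at hvQ
  have hwQ : w ∈ Q • (⊤ : Submodule (Z.presheaf.stalk z) (St P z)) := by
    have h1 : R ((DerSch.stalkFunctor Z z).map φ₁ w) ∈
        (Q • (⊤ : Submodule (Z.presheaf.stalk z) (St (Omega.conormal (j ≫ i)) z))).map R := ⟨_, hvQ, rfl⟩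
    rw [Submodule.map_smul'', hR] at h1
    exact Submodule.smul_mono le_rfl le_top h1
  -- so `w` is the image of a class of an element of `𝔪 I`
  have hQex : ∀ p ∈ Q • (⊤ : Submodule (Z.presheaf.stalk z) (St P z)), ∃ b ∈ M * I, ∃ c, Cls i (j z) c b ∧ eP p = un c := by
    intro p hp
    refine Submodule.smul_induction_on hp (fun r hr q _ => ?_) fun p p' hp hp' => ?_
    · obtain ⟨a, ha, rfl⟩ : ∃ a : X.presheaf.stalk (i (j z)), a ∈ M ∧ (j ≫ i).stalkMap z a = r :=
        (Ideal.mem_map_iff_of_surjective _ ((j ≫ i).stalkMap_surjective z)).1 hr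
      obtain ⟨g, c, hg, hc⟩ := hex q
      refine ⟨a * g, Ideal.mul_mem_mul ha (RingHom.mem_ker.2 (cls_mem i hg)), _, cls_smul i hg a, ?_⟩
      refine (map_smul eP.hom _ q).trans ?_
      rw [hσ]
      refine (congrArg (j.stalkMap z (i.stalkMap (j z) a) • ·) hc).trans ?_
      exact (map_smul ((ModuleCat.extendRestrictScalarsAdj (j.stalkMap z).hom).unit.app
        (St (Omega.conormal i) (j z))).hom (i.stalkMap (j z) a) c).symm
    · obtain ⟨b, hb, c, hc, he₁⟩ := hp
      obtain ⟨b', hb', c', hc', he₂⟩ := hp'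
      exact ⟨b + b', add_mem hb hb', c + c', cls_add i hc hc',
        (map_add eP.hom p p').trans ((congrArg₂ (· + ·) he₁ he₂).trans (map_add _ c c').symm)⟩
  obtain ⟨b, hb, c', hc', hwb⟩ := hQex w hwQ
  obtain ⟨c, hc, hwc'⟩ := hwe
  have h0 : un (c - c') = 0 := by
    refine (map_sub _ c c').trans (sub_eq_zero.2 ?_)
    exact hwc'.symm.trans hwb
  letI : Algebra (Y.presheaf.stalk (j z)) (Z.presheaf.stalk z) := (j.stalkMap z).hom.toAlgebra
  have hker : c - c' ∈ RingHom.ker (j.stalkMap z).hom • (⊤ : Submodule (Y.presheaf.stalk (j z)) (St (Omega.conormal i) (j z))) :=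
    (EtMil7.one_tmul_eq_zero_iff (S := Y.presheaf.stalk (j z)) (T := Z.presheaf.stalk z)
      (j.stalkMap_surjective z)).1 h0
  obtain ⟨g, hg, hgc⟩ : ∃ g ∈ J * I, Cls i (j z) (c - c') g := by
    refine Submodule.smul_induction_on hker (fun r hr q _ => ?_) fun p p' hp hp' => ?_
    · obtain ⟨a, rfl⟩ := i.stalkMap_surjective (j z) r
      obtain ⟨g, hg⟩ := cls_exists i (j z) q
      exact ⟨a * g, Ideal.mul_mem_mul (RingHom.mem_ker.2 ((hσ a).trans (RingHom.mem_ker.1 hr)))
        (RingHom.mem_ker.2 (cls_mem i hg)), cls_smul i hg a⟩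
    · obtain ⟨g, hg, h1⟩ := hp
      obtain ⟨g', hg', h2⟩ := hp'
      exact ⟨_, add_mem hg hg', cls_add i h1 h2⟩
  have h00 := cls_sub i (cls_sub i hc hc') hgc
  rw [sub_self] at h00
  have hsq : e - b - g ∈ I ^ 2 := cls_zero_mem_sq i (i.stalkMap_surjective (j z)) h00
  have hIM : I ≤ M := IsLocalRing.le_maximalIdeal (RingHom.ker_ne_top _)
  have hJM : J ≤ M := IsLocalRing.le_maximalIdeal (RingHom.ker_ne_top _)
  have h1 : e - b - g ∈ M * I := (sq I ▸ Ideal.mul_mono_left hIM) hsq
  have h2 := add_mem (add_mem h1 (Ideal.mul_mono_left hJM hg)) hb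
  rwa [sub_add_cancel, sub_add_cancel] at h2

end Groth.Agent.H1CNSplit
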