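import Groth.Agent.H1CNSplit.Stalk
import Groth.Agent.RegImmLib.Basic

/-!
# Regular immersions from split conormal sequences
-/

set_option backward.isDefEq.respectTransparency false
set_option backward.isDefEq.respectTransparency.types false
set_option linter.style.haveILetI false
set_option maxHeartbeats 1000000
set_option autoImplicit false

universe u

open CategoryTheory CategoryTheory.Limits AlgebraicGeometry TopologicalSpace Opposite

namespace Groth.Agent.H1CNSplit

open Groth.Agent Groth.Agent.Synt29.ConormalStalk Groth.Agent.Synt29 OmegaStalk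
open Groth.Agent.KRegLib Groth.Agent.RegImmLib
open Groth.Agent.WiebeLib (IsExact)

theorem regularImmersionAt {X Y Z : Scheme.{u}} (i : Y ⟶ X) [IsClosedImmersion i] (j : Z ⟶ Y) [IsClosedImmersion j]
    (φ₁ : (Scheme.Modules.pullback j).obj (Omega.conormal i) ⟶ Omega.conormal (j ≫ i))
    (hφ₁ : OmegaSh.IsConormalMap (j ≫ i) i (𝟙 X) j φ₁) (z : Z)
    (hsplit : ∃ (U : Z.Opens) (ρ : (Scheme.Modules.restrictFunctor U.ι).obj (Omega.conormal (j ≫ i)) ⟶
        (Scheme.Modules.restrictFunctor U.ι).obj ((Scheme.Modules.pullback j).obj (Omega.conormal i))),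
        z ∈ U ∧ (Scheme.Modules.restrictFunctor U.ι).map φ₁ ≫ ρ = 𝟙 _)
    {W : X.Opens} (hW : IsAffineOpen W) (hx : i (j z) ∈ W)
    {n : ℕ} (f : Fin n → Γ(X, W)) (hf : IsExact f) (hkf : RingHom.ker (i.app W).hom = Ideal.span (Set.range f))
    {l : ℕ} (h : Fin l → Γ(X, W)) (hh : IsExact h)
    (hkh : RingHom.ker ((j ≫ i).app W).hom = Ideal.span (Set.range h)) :
    RegImm.IsRegularImmersionAt .koszul j z := by
  classical
  let 𝔓 : Ideal Γ(X, W) := (hW.primeIdealOf ⟨i (j z), hx⟩).asIdeal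
  let S := X.presheaf.stalk (i (j z))
  letI : Algebra Γ(X, W) S := X.presheaf.algebra_section_stalk ⟨i (j z), hx⟩
  haveI := hW.isLocalization_stalk ⟨i (j z), hx⟩
  haveI : Module.Flat Γ(X, W) S := IsLocalization.flat _ 𝔓.primeCompl
  have hmem : ∀ r, algebraMap Γ(X, W) S r ∈ IsLocalRing.maximalIdeal S ↔ r ∈ 𝔓 :=
    fun r => IsLocalization.AtPrime.to_map_mem_maximal_iff S 𝔓 r
  have hkI : RingHom.ker (i.stalkMap (j z)).hom = Ideal.span (Set.range fun k => algebraMap Γ(X, W) S (f k)) := by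
    rw [RegNear.ker_stalkMap i (j z) hW hx, hkf, Ideal.map_span, ← Set.range_comp]
    rfl
  have hkJ : (RingHom.ker ((j ≫ i).stalkMap z).hom : Ideal S) =
      (RingHom.ker ((j ≫ i).app W).hom).map (algebraMap Γ(X, W) S) :=
    RegNear.ker_stalkMap (j ≫ i) z hW hx
  have hIM : RingHom.ker (i.stalkMap (j z)).hom ≤ IsLocalRing.maximalIdeal S :=
    IsLocalRing.le_maximalIdeal (RingHom.ker_ne_top _)
  have hJM : (RingHom.ker ((j ≫ i).stalkMap z).hom : Ideal S) ≤ IsLocalRing.maximalIdeal S :=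
    IsLocalRing.le_maximalIdeal (RingHom.ker_ne_top _)
  have hm𝔓 : ∀ k, h k ∈ 𝔓 := fun k => (hmem _).1 (hJM (by
    rw [hkJ, hkh]
    exact Ideal.mem_map_of_mem _ (Ideal.subset_span ⟨k, rfl⟩)))
  -- independence of the equations of `Y`
  have hind : ∀ c : Fin n → Γ(X, W), ∑ k, c k * f k ∈ 𝔓 * Ideal.span (Set.range h) → ∀ k, c k ∈ 𝔓 := by
    intro c hc
    let e : S := algebraMap Γ(X, W) S (∑ k, c k * f k)
    have heI : e ∈ RingHom.ker (i.stalkMap (j z)).hom := by
      rw [hkI]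
      simp only [e, map_sum, map_mul]
      exact Ideal.sum_mem _ fun k _ => Ideal.mul_mem_left _ _ (Ideal.subset_span ⟨k, rfl⟩)
    have heJ : e ∈ IsLocalRing.maximalIdeal S * (RingHom.ker ((j ≫ i).stalkMap z).hom : Ideal S) := by
      rw [hkJ, hkh]
      have h1 := Ideal.mem_map_of_mem (algebraMap Γ(X, W) S) hc
      rw [Ideal.map_mul] at h1
      exact Ideal.mul_mono_left (Ideal.map_le_iff_le_comap.2 fun r hr => Ideal.mem_comap.2 ((hmem r).2 hr)) h1
    obtain ⟨U, ρ, hzU, hρ⟩ := hsplit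
    obtain ⟨R, hR⟩ := exists_stalk_retraction φ₁ U ρ hρ (⟨z, hzU⟩ : U)
    have he2 := mem_mul_of_split i j φ₁ hφ₁ z R hR e heI heJ
    rw [hkI] at he2
    obtain ⟨a, ha, hae⟩ := (Submodule.mem_ideal_smul_span_iff_exists_sum (IsLocalRing.maximalIdeal S)
      (fun k => algebraMap Γ(X, W) S (f k)) e).1 he2
    rw [Finsupp.sum_fintype _ _ (fun k => by exact zero_smul _ _)] at hae
    have hrel : ∑ k, (algebraMap Γ(X, W) S (c k) - a k) * algebraMap Γ(X, W) S (f k) = 0 := by
      simp only [sub_mul, Finset.sum_sub_distrib]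
      rw [sub_eq_zero]
      refine Eq.trans ?_ hae.symm
      simp only [e, map_sum, map_mul]
    intro k
    refine (hmem _).1 ?_
    have h2 : algebraMap Γ(X, W) S (c k) - a k ∈ IsLocalRing.maximalIdeal S := hIM (by
      rw [hkI]
      exact KRegLib.mem_span_of_sum_eq_zero (WiebeLib.isExact_map hf) _ hrel k)
    simpa using add_mem h2 (ha k)
  -- exchange
  have hkij : RingHom.ker (i.app W).hom ≤ RingHom.ker ((j ≫ i).app W).hom := fun r hr => by
    rw [RingHom.mem_ker] at hr ⊢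
    show (j.app (i ⁻¹ᵁ W)).hom ((i.app W).hom r) = 0
    rw [hr, map_zero]
  have hspan : Ideal.span (Set.range f ∪ Set.range (Subtype.val : RingHom.ker ((j ≫ i).app W).hom → Γ(X, W))) =
      Ideal.span (Set.range h) := by
    rw [← hkh, Subtype.range_coe_subtype]
    refine le_antisymm (Ideal.span_le.2 ?_) fun r hr => Ideal.subset_span (Or.inr hr)
    rintro r (⟨k, rfl⟩ | hr)
    · exact hkij (hkf ▸ Ideal.subset_span ⟨k, rfl⟩)
    · exact hr
  obtain ⟨d, hd, t, e, hex⟩ := exists_exchange 𝔓 h hh hm𝔓 f _ hspan hind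
  let W' := X.basicOpen d
  have hW' : IsAffineOpen W' := hW.basicOpen d
  have hxW' : i (j z) ∈ W' := by
    rw [X.mem_basicOpen _ _ hx]
    exact (IsLocalization.map_units S (⟨d, hd⟩ : 𝔓.primeCompl) :)
  letI : Algebra Γ(X, W) Γ(X, W') := (X.presheaf.map (homOfLE (X.basicOpen_le d)).op).hom.toAlgebra
  haveI : IsLocalization.Away d Γ(X, W') := hW.isLocalization_basicOpen d
  haveI : Module.Flat Γ(X, W) Γ(X, W') := IsLocalization.flat _ (Submonoid.powers d)
  obtain ⟨hex1, hex2⟩ := hex Γ(X, W') (IsLocalization.map_units Γ(X, W') (⟨d, 1, pow_one d⟩ : Submonoid.powers d))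
  obtain ⟨hiW, hsW⟩ : IsAffineOpen (i ⁻¹ᵁ W) ∧ Function.Surjective (i.app W) :=
    ⟨hW.preimage i, i.app_surjective W hW⟩
  obtain ⟨hjiW, hjsW⟩ : IsAffineOpen ((j ≫ i) ⁻¹ᵁ W) ∧ Function.Surjective ((j ≫ i).app W) :=
    ⟨hW.preimage _, (j ≫ i).app_surjective W hW⟩
  let f' : Fin n → Γ(X, W') := fun k => algebraMap Γ(X, W) Γ(X, W') (f k)
  let g : Fin t → Γ(X, W') := fun k => algebraMap Γ(X, W) Γ(X, W') (e k).1
  have hkf' : RingHom.ker (i.app W').hom = Ideal.span (Set.range f') := by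
    refine (KRegLib.app_basicOpen_props i hW hiW hsW d).2.2.trans ?_
    rw [hkf, Ideal.map_span, ← Set.range_comp]
    rfl
  have hkh' : RingHom.ker ((j ≫ i).app W').hom = Ideal.span (Set.range (appendSeq f' t g)) := by
    refine (KRegLib.app_basicOpen_props (j ≫ i) hW hjiW hjsW d).2.2.trans ?_
    rw [hkh]
    exact hex2.symm
  have hq : Function.Surjective (i.app W').hom := i.app_surjective W' hW'
  refine (isRegularImmersionAt_iff j z).2 ⟨t, i ⁻¹ᵁ W', hW'.preimage i, hxW', ?_, fun k => (i.app W').hom (g k),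
    isExact_of_appendSeq (WiebeLib.isExact_map hf) hq hkf' g hex1, ?_⟩
  · exact IsZariskiLocalAtTarget.restrict (P := @IsClosedImmersion) ‹_› _
  · have h1 : RingHom.ker (j.app (i ⁻¹ᵁ W')).hom = (RingHom.ker ((j ≫ i).app W').hom).map (i.app W').hom := by
      show _ = (RingHom.ker ((j.app (i ⁻¹ᵁ W')).hom.comp (i.app W').hom)).map _
      rw [← RingHom.comap_ker, Ideal.map_comap_of_surjective _ hq]
    rw [h1, hkh', span_appendSeq, Ideal.map_sup, ← hkf', Ideal.map_span, ← Set.range_comp]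
    have h2 : (RingHom.ker (i.app W').hom).map (i.app W').hom = ⊥ :=
      (Ideal.map_eq_bot_iff_le_ker _).2 le_rfl
    rw [h2, bot_sup_eq]
    rfl

end Groth.Agent.H1CNSplit
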